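import Mathlib

/-!
A smooth algebra graded by a sharp monoid is the symmetric algebra of a projective module over its
degree zero part.
-/

set_option autoImplicit false

universe u v

namespace Groth.Agent.GradedSmooth

theorem exists_sq_lift {R : Type u} [CommRing R] {A : Type u} [CommRing A] [Algebra R A]
    [Algebra.FormallySmooth R A] {S : Type u} [CommRing S] [Algebra R S] (φ : S →ₐ[R] A)
    (hφ : Function.Surjective φ) :
    ∃ σ : A →ₐ[R] S ⧸ RingHom.ker φ.toRingHom ^ 2, ∀ a s, Ideal.Quotient.mk _ s = σ a → φ s = a := by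
  let K := RingHom.ker φ.toRingHom
  let g : S ⧸ K ^ 2 →ₐ[R] A := Ideal.Quotient.liftₐ (K ^ 2) φ fun x hx => Ideal.pow_le_self two_ne_zero hx
  have hg : Function.Surjective g := fun a => ⟨Ideal.Quotient.mk _ (hφ a).choose, (hφ a).choose_spec⟩
  have hn : IsNilpotent (RingHom.ker (g : S ⧸ K ^ 2 →+* A)) := by
    refine ⟨2, le_antisymm ?_ bot_le⟩
    have h1 : RingHom.ker (g : S ⧸ K ^ 2 →+* A) ≤ K.map (Ideal.Quotient.mk (K ^ 2)) := fun x hx => by
      obtain ⟨s, rfl⟩ := Ideal.Quotient.mk_surjective x
      exact Ideal.mem_map_of_mem _ (hx : φ s = 0)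
    refine (Ideal.pow_right_mono h1 2).trans ?_
    rw [← Ideal.map_pow, Ideal.map_quotient_self]
    exact le_rfl
  refine ⟨Algebra.FormallySmooth.liftOfSurjective (AlgHom.id R A) g hg hn, fun a s h => ?_⟩
  have := Algebra.FormallySmooth.liftOfSurjective_apply (AlgHom.id R A) g hg hn a
  rw [← h] at this
  exact this

variable (R : Type u) [CommRing R] {A0 : Type u} [CommRing A0] [Algebra R A0] {A : Type u} [CommRing A]
  [Algebra R A] [Algebra A0 A] [IsScalarTower R A0 A] [Algebra.FormallySmooth R A]

include R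

/-- a section of `κ → A0 ↠ I/I²` -/
theorem exists_section {κ : Type u} [Fintype κ] (π : A →ₐ[A0] A0) (a : κ → A) (ha : ∀ j, π (a j) = 0)
    (hgen : Algebra.adjoin A0 (Set.range a) = ⊤) :
    ∃ h : A →ₗ[A0] (κ → A0), (∀ x ∈ RingHom.ker π.toRingHom ^ 2, h x = 0) ∧
      ∀ x, π x = 0 → x - ∑ j, h x j • a j ∈ RingHom.ker π.toRingHom ^ 2 := by
  classical
  let S := MvPolynomial κ A0
  let I := RingHom.ker π.toRingHom
  let φ : S →ₐ[A0] A := MvPolynomial.aeval a
  have hφ : Function.Surjective φ := by
    rw [← AlgHom.range_eq_top, ← hgen, Algebra.adjoin_range_eq_range_aeval]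
  have hπφ : π.comp φ = MvPolynomial.aeval (fun _ => (0 : A0)) :=
    MvPolynomial.algHom_ext fun j => by simp [φ, ha]
  have hcon : ∀ f : S, π (φ f) = MvPolynomial.coeff 0 f := fun f => by
    rw [← AlgHom.comp_apply, hπφ, MvPolynomial.aeval_zero', MvPolynomial.constantCoeff_eq]
    rfl
  let K := RingHom.ker (φ.restrictScalars R).toRingHom
  obtain ⟨σ, hσ⟩ := exists_sq_lift (φ.restrictScalars R) hφ
  let lin : S →ₗ[A0] (κ → A0) := LinearMap.pi fun j => MvPolynomial.lcoeff A0 (Finsupp.single j 1)
  have hmul : ∀ f g : S, ∀ j, lin (f * g) j = MvPolynomial.coeff 0 f * lin g j + lin f j * MvPolynomial.coeff 0 g := by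
    intro f g j
    change MvPolynomial.coeff (Finsupp.single j 1) (f * g) = _
    rw [MvPolynomial.coeff_mul, Finsupp.antidiagonal_single, Finset.sum_map]
    simp [lin, Finset.Nat.antidiagonal_succ]
    rfl
  have hlin2 : ∀ f ∈ K ^ 2, lin f = 0 := by
    intro f hf
    rw [pow_two] at hf
    refine Submodule.mul_induction_on hf (fun x hx y hy => ?_) fun x y hx hy => by rw [map_add, hx, hy, add_zero]
    funext j
    have hx0 : MvPolynomial.coeff 0 x = 0 := by rw [← hcon, show φ x = 0 from hx, map_zero]
    have hy0 : MvPolynomial.coeff 0 y = 0 := by rw [← hcon, show φ y = 0 from hy, map_zero]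
    rw [hmul, hx0, hy0]; simp
  choose rep hrep using fun x : A => Ideal.Quotient.mk_surjective (σ x)
  let D : A → (κ → A0) := fun x => lin (rep x)
  have hD : ∀ x f, Ideal.Quotient.mk _ f = σ x → D x = lin f := fun x f h => by
    rw [← sub_eq_zero, ← map_sub]
    exact hlin2 _ (Ideal.Quotient.eq.1 ((hrep x).trans h.symm))
  have hDadd : ∀ x y, D (x + y) = D x + D y := fun x y => by
    rw [hD (x + y) (rep x + rep y) (by rw [map_add, map_add, hrep, hrep]), map_add]
  have hDmul : ∀ x y j, D (x * y) j = π x * D y j + D x j * π y := fun x y j => by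
    rw [hD (x * y) (rep x * rep y) (by rw [map_mul, map_mul, hrep, hrep]), hmul, ← hcon, ← hcon]
    rw [show φ (rep x) = x from hσ x _ (hrep x), show φ (rep y) = y from hσ y _ (hrep y)]
  let nrm : A →ₗ[A0] A := LinearMap.id - (Algebra.linearMap A0 A) ∘ₗ π.toLinearMap
  have hnrm : ∀ x, π (nrm x) = 0 := fun x => by
    simp [nrm]
  let h : A →ₗ[A0] (κ → A0) :=
    { toFun := fun x => D (nrm x)
      map_add' := fun x y => by rw [map_add, hDadd]
      map_smul' := fun c x => by
        funext j
        rw [map_smul, Algebra.smul_def, hDmul, hnrm, AlgHom.commutes]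
        simp }
  have hsame : ∀ x, π x = 0 → h x = D x := fun x hx => by
    change D (nrm x) = D x
    simp [nrm, hx]
  refine ⟨h, fun x hx => ?_, fun x hx => ?_⟩
  · change x ∈ I ^ 2 at hx
    rw [pow_two] at hx
    refine Submodule.mul_induction_on hx (fun u hu w hw => ?_) fun u w hu hw => by rw [map_add, hu, hw, add_zero]
    have hu' : π u = 0 := hu
    have hw' : π w = 0 := hw
    funext j
    rw [hsame _ (by rw [map_mul, hu', zero_mul]), hDmul, hu', hw']
    simp
  · rw [hsame x hx]
    have key : ∀ f : S, φ f - algebraMap A0 A (MvPolynomial.coeff 0 f) - ∑ j, lin f j • a j ∈ I ^ 2 := fun f => by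
      induction f using MvPolynomial.induction_on with
      | C c =>
        have h0 : ∀ j, lin (MvPolynomial.C c) j = 0 := fun j => by
          change MvPolynomial.coeff (Finsupp.single j 1) (MvPolynomial.C c) = 0
          rw [MvPolynomial.coeff_C, if_neg (fun e => by simpa using (Finsupp.single_eq_zero.1 e.symm))]
        simp only [h0, zero_smul, Finset.sum_const_zero, sub_zero]
        rw [show φ (MvPolynomial.C c) = algebraMap A0 A c from MvPolynomial.aeval_C a c,
          show MvPolynomial.coeff 0 (MvPolynomial.C c : MvPolynomial κ A0) = c from MvPolynomial.coeff_zero_C c, sub_self]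
        exact zero_mem _
      | add f g hf hg =>
        have := (I ^ 2).add_mem hf hg
        convert this using 1
        simp [add_smul, Finset.sum_add_distrib]
        abel
      | mul_X f i hf =>
        have h0 : ∀ j, lin (f * MvPolynomial.X i) j = if j = i then MvPolynomial.coeff 0 f else 0 := fun j => by
          rw [hmul]
          have h1 : lin (MvPolynomial.X i : S) j = if j = i then 1 else 0 := by
            change MvPolynomial.coeff (Finsupp.single j 1) (MvPolynomial.X i : S) = _
            rw [MvPolynomial.coeff_X]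
            simp [Finsupp.single_left_inj, eq_comm]
          rw [h1]
          simp
        rw [show MvPolynomial.coeff 0 (f * MvPolynomial.X i) = 0 by
          rw [← hcon, map_mul, map_mul, show φ (MvPolynomial.X i) = a i from MvPolynomial.aeval_X a i, ha i, mul_zero], map_zero, sub_zero]
        simp only [h0, ite_smul, zero_smul, Finset.sum_ite_eq', Finset.mem_univ, if_true, map_mul]
        rw [show φ (MvPolynomial.X i) = a i from MvPolynomial.aeval_X a i, Algebra.smul_def, ← sub_mul, pow_two]
        refine Submodule.mul_mem_mul ?_ (ha i)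
        change π (φ f - algebraMap A0 A (MvPolynomial.coeff 0 f)) = 0
        rw [map_sub, AlgHom.commutes, hcon]
        simp
    have h := key (rep x)
    rw [show φ (rep x) = x from hσ x _ (hrep x), ← hcon, show φ (rep x) = x from hσ x _ (hrep x), hx, map_zero, sub_zero] at h
    exact h

/-- injectivity of `Sym P → A` -/
theorem injective_of_tangent [Algebra.FinitePresentation A0 A] {P : Type u} [AddCommGroup P] [Module A0 P]
    {κ : Type u} [Fintype κ] (i : P →ₗ[A0] (κ → A0)) (r : (κ → A0) →ₗ[A0] P) (hri : r ∘ₗ i = LinearMap.id)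
    (π : A →ₐ[A0] A0) (φ : SymmetricAlgebra A0 P →ₐ[A0] A) (hφ : Function.Surjective φ)
    (hπ : ∀ p, π (φ (SymmetricAlgebra.ι A0 P p)) = 0)
    (hcot : ∀ p, φ (SymmetricAlgebra.ι A0 P p) ∈ RingHom.ker π.toRingHom ^ 2 → p = 0) :
    Function.Injective φ := by
  classical
  let S := SymmetricAlgebra A0 P
  let ε : S →ₐ[A0] A0 := SymmetricAlgebra.algebraMapInv
  have hε : ∀ x, π (φ x) = ε x := fun x => by
    have : π.comp φ = ε := SymmetricAlgebra.algHom_ext (LinearMap.ext fun p => by
      change π (φ (SymmetricAlgebra.ι A0 P p)) = ε (SymmetricAlgebra.ι A0 P p)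
      rw [hπ]
      exact (SymmetricAlgebra.algebraMapInv_ι (R := A0) (M := P) p).symm)
    exact congr($this x)
  let J : Ideal S := RingHom.ker ε.toRingHom
  letI : Algebra R S := ((algebraMap A0 S).comp (algebraMap R A0)).toAlgebra
  haveI : IsScalarTower R A0 S := IsScalarTower.of_algebraMap_eq fun _ => rfl
  let φR : S →ₐ[R] A := φ.restrictScalars R
  let K : Ideal S := RingHom.ker φR.toRingHom
  have hKJ : K ≤ J := fun x hx => by
    change ε x = 0
    rw [← hε, show φ x = 0 from hx, map_zero]
  have hJdec : ∀ x : S, ∃ p : P, x - algebraMap A0 S (ε x) - SymmetricAlgebra.ι A0 P p ∈ J ^ 2 := by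
    intro x
    induction x using SymmetricAlgebra.induction with
    | algebraMap c =>
      refine ⟨0, ?_⟩
      have : ε (algebraMap A0 S c) = c := ε.commutes c
      rw [this, map_zero, sub_zero, sub_self]
      exact zero_mem _
    | ι p =>
      refine ⟨p, ?_⟩
      rw [show ε (SymmetricAlgebra.ι A0 P p) = 0 from SymmetricAlgebra.algebraMapInv_ι (R := A0) (M := P) p, map_zero, sub_zero, sub_self]
      exact zero_mem _
    | add a b ha hb =>
      obtain ⟨p, hp⟩ := ha; obtain ⟨q, hq⟩ := hb
      refine ⟨p + q, ?_⟩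
      have := (J ^ 2).add_mem hp hq
      convert this using 1
      simp; abel
    | mul a b ha hb =>
      obtain ⟨p, hp⟩ := ha; obtain ⟨q, hq⟩ := hb
      refine ⟨ε a • q + ε b • p, ?_⟩
      have ha' : a - algebraMap A0 S (ε a) ∈ J := by
        change ε _ = 0; rw [map_sub, AlgHom.commutes]; simp
      have hb' : b - algebraMap A0 S (ε b) ∈ J := by
        change ε _ = 0; rw [map_sub, AlgHom.commutes]; simp
      have h1 : (a - algebraMap A0 S (ε a)) * (b - algebraMap A0 S (ε b)) ∈ J ^ 2 := by
        rw [pow_two]; exact Submodule.mul_mem_mul ha' hb'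
      have := (J ^ 2).add_mem h1 ((J ^ 2).add_mem ((J ^ 2).mul_mem_left (algebraMap A0 S (ε b)) hp)
        ((J ^ 2).mul_mem_left (algebraMap A0 S (ε a)) hq))
      convert this using 1
      simp [Algebra.smul_def]; ring
  have hmapJ : ∀ x ∈ J ^ 2, φ x ∈ RingHom.ker π.toRingHom ^ 2 := fun x hx => by
    have h1 : J.map φ.toRingHom ≤ RingHom.ker π.toRingHom := Ideal.map_le_iff_le_comap.2 fun y hy => by
      change π (φ y) = 0
      rw [hε]; exact hy
    have h2 := Ideal.mem_map_of_mem φ.toRingHom hx
    rw [Ideal.map_pow] at h2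
    exact Ideal.pow_right_mono h1 2 h2
  have hKJ2 : K ≤ J ^ 2 := fun x hx => by
    obtain ⟨p, hp⟩ := hJdec x
    have hx0 : ε x = 0 := hKJ hx
    rw [hx0, map_zero, sub_zero] at hp
    have h1 := hmapJ _ hp
    rw [map_sub, show φ x = 0 from hx, zero_sub, neg_mem_iff] at h1
    rw [hcot p h1, map_zero, sub_zero] at hp
    exact hp
  -- the derivation
  obtain ⟨σ, hσ⟩ := exists_sq_lift φR hφ
  have hK : K ≤ J * K := by
    let M : Ideal S := J * K
    have h2 : K ^ 2 ≤ M := by rw [pow_two]; exact Ideal.mul_mono_left hKJ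
    let τ : S →+* S ⧸ M := ((Ideal.Quotient.factor h2).comp σ.toRingHom).comp φ.toRingHom
    have hτ : ∀ s, ∃ k ∈ K, τ s = Ideal.Quotient.mk M (s + k) := fun s => by
      obtain ⟨w, hw⟩ := Ideal.Quotient.mk_surjective (σ (φ s))
      have hws : φ w = φ s := hσ (φ s) w hw
      refine ⟨w - s, ?_, ?_⟩
      · change φ (w - s) = 0
        rw [map_sub, hws, sub_self]
      · change Ideal.Quotient.factor h2 (σ (φ s)) = _
        rw [← hw, Ideal.Quotient.factor_mk, add_sub_cancel]
    have hzero : ∀ x ∈ J ^ 2, Ideal.Quotient.mk M x = τ x := by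
      intro x hx
      rw [pow_two] at hx
      refine Submodule.mul_induction_on hx (fun u hu w hw => ?_) fun u w hu hw => by rw [map_add, map_add, hu, hw]
      obtain ⟨k, hk, hku⟩ := hτ u
      obtain ⟨l, hl, hlw⟩ := hτ w
      rw [map_mul τ, hku, hlw, ← map_mul, Ideal.Quotient.eq]
      have h1 : u * l ∈ M := Submodule.mul_mem_mul hu hl
      have h2' : k * w ∈ M := by rw [mul_comm]; exact Submodule.mul_mem_mul hw hk
      have h3 : k * l ∈ M := Submodule.mul_mem_mul (hKJ hk) hl
      have := neg_mem (M.add_mem (M.add_mem h1 h2') h3)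
      convert this using 1
      ring
    intro x hx
    have h1 := hzero x (hKJ2 hx)
    rw [show τ x = 0 by change Ideal.Quotient.factor h2 (σ (φ x)) = 0; rw [show φ x = 0 from hx, map_zero, map_zero],
      Ideal.Quotient.eq_zero_iff_mem] at h1
    exact h1
  -- inside a polynomial ring
  let bF := Pi.basisFun A0 κ
  let e := SymmetricAlgebra.equivMvPolynomial bF
  let jj : S →ₐ[A0] MvPolynomial κ A0 := e.toAlgHom.comp (SymmetricAlgebra.lift ((SymmetricAlgebra.ι A0 (κ → A0)) ∘ₗ i))
  let rr : MvPolynomial κ A0 →ₐ[A0] S := (SymmetricAlgebra.lift ((SymmetricAlgebra.ι A0 P) ∘ₗ r)).comp e.symm.toAlgHom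
  have hrj : ∀ x, rr (jj x) = x := fun x => by
    have : rr.comp jj = AlgHom.id A0 S := SymmetricAlgebra.algHom_ext (LinearMap.ext fun p => by
      have := congr($hri p)
      simp only [LinearMap.comp_apply, LinearMap.id_apply] at this
      simp [rr, jj, this, S])
    exact congr($this x)
  have hKfg : K.FG := by
    have hs : Function.Surjective (φ.comp rr) := hφ.comp (fun x => ⟨jj x, hrj x⟩)
    have h1 := Algebra.FinitePresentation.ker_fG_of_surjective (φ.comp rr) hs
    have : K = (RingHom.ker (φ.comp rr).toRingHom).map rr.toRingHom := by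
      refine le_antisymm (fun x hx => ?_) (Ideal.map_le_iff_le_comap.2 fun y hy => hy)
      rw [← hrj x]
      refine Ideal.mem_map_of_mem rr.toRingHom ?_
      change φ (rr (jj x)) = 0
      rw [hrj]; exact hx
    rw [this]
    exact h1.map _
  obtain ⟨s, hs, hsK⟩ := Submodule.exists_sub_one_mem_and_smul_eq_zero_of_fg_of_le_smul J K hKfg hK
  rw [injective_iff_map_eq_zero]
  intro x hx
  have h0 : s * x = 0 := hsK x hx
  have hcc : ∀ y, MvPolynomial.constantCoeff (jj y) = ε y := fun y => by
    have : (MvPolynomial.aeval fun _ : κ => (0 : A0)).comp jj = ε := by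
      refine SymmetricAlgebra.algHom_ext (LinearMap.ext fun p => ?_)
      have hh : ((MvPolynomial.aeval fun _ : κ => (0 : A0)).comp e.toAlgHom).toLinearMap ∘ₗ SymmetricAlgebra.ι A0 (κ → A0) = 0 :=
        bF.ext fun j => by simp [e]
      have := congr($hh (i p))
      simp only [LinearMap.comp_apply, AlgHom.toLinearMap_apply, AlgHom.comp_apply, LinearMap.zero_apply] at this
      simpa [jj, ε, SymmetricAlgebra.algebraMapInv_ι] using this
    have h := congr($this y)
    simpa using h
  have hu : IsUnit ((jj s : MvPolynomial κ A0) : MvPowerSeries κ A0) := by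
    rw [MvPowerSeries.isUnit_iff_constantCoeff]
    have h1 : ε s = 1 := by
      have : ε (s - 1) = 0 := hs
      rwa [map_sub, map_one, sub_eq_zero] at this
    rw [show MvPowerSeries.constantCoeff (jj s : MvPowerSeries κ A0) = MvPolynomial.constantCoeff (jj s) from rfl, hcc, h1]
    exact isUnit_one
  have h2 : ((jj s : MvPolynomial κ A0) : MvPowerSeries κ A0) * (jj x : MvPowerSeries κ A0) = 0 := by
    rw [← MvPolynomial.coe_mul, ← map_mul, h0, map_zero, MvPolynomial.coe_zero]
  have h3 : jj x = 0 := MvPolynomial.coe_injective _ _ (by rw [MvPolynomial.coe_zero]; exact hu.mul_right_eq_zero.1 h2)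
  rw [← hrj x, h3, map_zero]

end Groth.Agent.GradedSmooth
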