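import Groth.Agent.GradedSmooth.Tangent

/-!
The graded part: well-founded induction on the degree.
-/

set_option autoImplicit false

universe u

open DirectSum

namespace Groth.Agent.GradedSmooth

theorem wellFounded_div (N : Type) [AddCommMonoid N] [AddMonoid.FG N] [IsCancelAdd N]
    (hsharp : ∀ n : N, IsAddUnit n → n = 0) :
    WellFounded (fun a b : N => ∃ c, c ≠ 0 ∧ b = a + c) := by
  classical
  obtain ⟨S, hS⟩ := AddMonoid.FG.fg_top (M := N)
  let f : (↥S →₀ ℕ) →+ N := Finsupp.liftAddHom fun s => multiplesHom N (s : N)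
  have hf : Function.Surjective f := by
    rw [← AddMonoidHom.mrange_eq_top, eq_top_iff, ← hS, AddSubmonoid.closure_le]
    exact fun x hx => ⟨Finsupp.single ⟨x, hx⟩ 1, by simp [f]⟩
  rw [wellFounded_iff_isEmpty_descending_chain]
  refine ⟨fun ⟨x, hx⟩ => ?_⟩
  choose v hv using fun n => hf (x n)
  have hle : ∀ m n, m < n → ∃ c, c ≠ 0 ∧ x m = x n + c := by
    intro m n h
    induction n, h using Nat.le_induction with
    | base => exact hx m
    | succ n _ ih =>
      obtain ⟨c, hc, e⟩ := ih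
      obtain ⟨d, hd, e'⟩ := hx n
      refine ⟨d + c, fun h => hd (hsharp d (IsAddUnit.of_add_eq_zero c h)), ?_⟩
      rw [e, e', add_assoc]
  obtain ⟨m, n, hmn, hle'⟩ := wellQuasiOrdered_le v
  obtain ⟨c, hc, e⟩ := hle m n hmn
  obtain ⟨w, hw⟩ := exists_add_of_le hle'
  have e2 : x n = x m + f w := by rw [← hv, ← hv, hw, map_add]
  rw [e2, add_assoc] at e
  have h0 : f w + c = 0 := (left_eq_add.1 e)
  exact hc (hsharp c (IsAddUnit.of_add_eq_zero (f w) ((add_comm c (f w)).trans h0)))

set_option maxHeartbeats 1000000 in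
theorem exists_algEquiv_symmetricAlgebra {R : Type u} [CommRing R] {A : Type u}
    [CommRing A] [Algebra R A] {N : Type} [AddCommMonoid N] [DecidableEq N] [AddMonoid.FG N] [IsCancelAdd N]
    (hsharp : ∀ n : N, IsAddUnit n → n = 0) (𝒜 : N → Submodule R A) [GradedAlgebra 𝒜]
    [Algebra.FormallySmooth R A] [Algebra.FinitePresentation R A] :
    ∃ (P : Type u) (_ : AddCommGroup P) (_ : Module (𝒜 0) P), Module.Finite (𝒜 0) P ∧
      Module.Projective (𝒜 0) P ∧ Nonempty (A ≃ₐ[𝒜 0] SymmetricAlgebra (𝒜 0) P) := by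
  classical
  have hwf := wellFounded_div N hsharp
  letI : PartialOrder N :=
    { le := fun a b => ∃ c, b = a + c
      le_refl := fun a => ⟨0, (add_zero a).symm⟩
      le_trans := fun a b c ⟨x, hx⟩ ⟨y, hy⟩ => ⟨x + y, by rw [hy, hx, add_assoc]⟩
      le_antisymm := fun a b ⟨x, hx⟩ ⟨y, hy⟩ => by
        rw [hx, add_assoc, left_eq_add] at hy
        rw [hx, hsharp x (IsAddUnit.of_add_eq_zero y hy), add_zero] }
  haveI : CanonicallyOrderedAdd N :=
    { exists_add_of_le := fun h => h
      le_add_self := fun a b => ⟨b, add_comm b a⟩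
      le_self_add := fun a b => ⟨b, rfl⟩ }
  haveI : IsScalarTower R (𝒜 0) A := IsScalarTower.of_algebraMap_eq fun _ => rfl
  let π : A →ₐ[𝒜 0] (𝒜 0) :=
    { GradedRing.projZeroRingHom' 𝒜 with commutes' := GradedRing.projZeroRingHom'_apply_coe 𝒜 }
  have hπ0 : ∀ x, π x = 0 ↔ (decompose 𝒜 x 0 : A) = 0 := fun x => Subtype.ext_iff
  have hπne : ∀ {n : N} {x : A}, x ∈ 𝒜 n → n ≠ 0 → π x = 0 := fun {n x} hx hn =>
    (hπ0 x).2 (decompose_of_mem_ne 𝒜 hx hn)
  haveI : Algebra.FiniteType R (𝒜 0) :=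
    Algebra.FiniteType.of_surjective (π.restrictScalars R) (GradedRing.projZeroRingHom'_surjective 𝒜)
  haveI : Algebra.FinitePresentation (𝒜 0) A :=
    Algebra.FinitePresentation.of_restrict_scalars_finitePresentation R (𝒜 0) A
  obtain ⟨G, hG⟩ := (inferInstance : Algebra.FiniteType R A).out
  let κ : Type u := Σ x : G, ↥((decompose 𝒜 (x : A)).support.erase 0)
  let d : κ → N := fun j => j.2.1
  let a : κ → A := fun j => (decompose 𝒜 (j.1 : A) (d j) : A)
  have had : ∀ j, a j ∈ 𝒜 (d j) := fun j => Submodule.coe_mem _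
  have hd : ∀ j, d j ≠ 0 := fun j => (Finset.mem_erase.1 j.2.2).1
  have ha : ∀ j, π (a j) = 0 := fun j => hπne (had j) (hd j)
  have hgen : Algebra.adjoin (𝒜 0) (Set.range a) = ⊤ := by
    rw [eq_top_iff]
    intro x _
    have hx : x ∈ Algebra.adjoin R (G : Set A) := hG ▸ Algebra.mem_top
    refine (Algebra.adjoin_le (S := (Algebra.adjoin (𝒜 0) (Set.range a)).restrictScalars R) ?_) hx
    intro y hy
    rw [SetLike.mem_coe, Subalgebra.mem_restrictScalars, ← sum_support_decompose 𝒜 y]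
    refine Subalgebra.sum_mem _ fun i hi => ?_
    rcases eq_or_ne i 0 with rfl | h
    · exact Subalgebra.algebraMap_mem _ (decompose 𝒜 y 0)
    · exact Algebra.subset_adjoin ⟨⟨⟨y, hy⟩, ⟨i, Finset.mem_erase.2 ⟨h, hi⟩⟩⟩, rfl⟩
  obtain ⟨h, hh2, hhx⟩ := exists_section R π a ha hgen
  let I : Ideal A := RingHom.ker π.toRingHom
  let pr : N → A →ₗ[𝒜 0] A := fun n =>
    { toFun := fun x => (decompose 𝒜 x n : A)
      map_add' := fun x y => by rw [decompose_add, DirectSum.add_apply, Submodule.coe_add]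
      map_smul' := fun c x => by
        rw [Algebra.smul_def, SetLike.GradeZero.algebraMap_apply,
          coe_decompose_mul_of_left_mem_zero 𝒜 c.2]
        rfl }
  have hI : (I ^ 2).IsHomogeneous 𝒜 := by
    have : I.IsHomogeneous 𝒜 := fun i x hx => by
      rcases eq_or_ne i 0 with rfl | hi
      · rw [(hπ0 x).1 hx]; exact zero_mem _
      · exact hπne (Submodule.coe_mem _) hi
    rw [pow_two]
    exact Ideal.IsHomogeneous.mul this this
  have hpr : ∀ n x, x ∈ I ^ 2 → pr n x ∈ I ^ 2 := fun n x hx => hI n hx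
  let h' : A →ₗ[𝒜 0] (κ → 𝒜 0) := LinearMap.pi fun j => LinearMap.proj j ∘ₗ h ∘ₗ pr (d j)
  let s : (κ → 𝒜 0) →ₗ[𝒜 0] A := Fintype.linearCombination (𝒜 0) a
  have hs : ∀ v, s v = ∑ j, v j • a j := fun v => Fintype.linearCombination_apply (𝒜 0) a v
  have hh' : ∀ x ∈ I ^ 2, h' x = 0 := fun x hx => funext fun j => by
    change h (pr (d j) x) j = 0
    rw [hh2 _ (hpr _ x hx)]; rfl
  have hhom : ∀ {n : N} {x : A}, x ∈ 𝒜 n → n ≠ 0 → x - s (h' x) ∈ I ^ 2 ∧ x - s (h' x) ∈ 𝒜 n := by
    intro n x hx hn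
    have key : x - s (h' x) = pr n (x - ∑ j, h x j • a j) := by
      rw [hs, map_sub, map_sum]
      congr 1
      · exact (decompose_of_mem_same 𝒜 hx).symm
      refine Finset.sum_congr rfl fun j _ => ?_
      rw [map_smul]
      change h (decompose 𝒜 x (d j) : A) j • a j = h x j • (decompose 𝒜 (a j) n : A)
      rcases eq_or_ne (d j) n with e | e
      · rw [e, decompose_of_mem_same 𝒜 hx, decompose_of_mem_same 𝒜 (e ▸ had j)]
      · rw [decompose_of_mem_ne 𝒜 hx (Ne.symm e), decompose_of_mem_ne 𝒜 (had j) e, map_zero]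
        simp
    rw [key]
    exact ⟨hpr n _ (hhx x (hπne hx hn)), Submodule.coe_mem _⟩
  have hsh : ∀ v, s v - s (h' (s v)) ∈ I ^ 2 := by
    intro v
    have : s v - s (h' (s v)) = ∑ j, v j • (a j - s (h' (a j))) := by
      rw [hs v]
      simp only [map_sum, map_smul, smul_sub, Finset.sum_sub_distrib]
    rw [this]
    exact Submodule.sum_mem _ fun j _ => Submodule.smul_of_tower_mem _ _ (hhom (had j) (hd j)).1
  let e : (κ → 𝒜 0) →ₗ[𝒜 0] (κ → 𝒜 0) := h' ∘ₗ s
  have he : ∀ v, e (e v) = e v := fun v => by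
    have := hh' _ (hsh v)
    rw [map_sub, sub_eq_zero] at this
    exact this.symm
  let P := LinearMap.range e
  let i : P →ₗ[𝒜 0] (κ → 𝒜 0) := P.subtype
  let r : (κ → 𝒜 0) →ₗ[𝒜 0] P := e.rangeRestrict
  have hri : r ∘ₗ i = LinearMap.id := LinearMap.ext fun p => Subtype.ext (by
    obtain ⟨v, hv⟩ := p.2
    change e (p : κ → 𝒜 0) = p
    rw [← hv, he])
  let φ : SymmetricAlgebra (𝒜 0) P →ₐ[𝒜 0] A := SymmetricAlgebra.lift (s ∘ₗ i)
  have hφι : ∀ p, φ (SymmetricAlgebra.ι (𝒜 0) P p) = s (p : κ → 𝒜 0) := fun p =>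
    SymmetricAlgebra.lift_ι_apply (f := s ∘ₗ i) p
  have hπs : ∀ v, π (s v) = 0 := fun v => by
    rw [hs, map_sum]
    exact Finset.sum_eq_zero fun j _ => by rw [map_smul, ha, smul_zero]
  have hsurj : Function.Surjective φ := by
    have hB : ∀ n x, x ∈ 𝒜 n → x ∈ φ.range := by
      intro n
      induction n using hwf.induction with
      | h n ih =>
        intro x hx
        rcases eq_or_ne n 0 with rfl | hn
        · exact Subalgebra.algebraMap_mem φ.range ⟨x, hx⟩
        obtain ⟨hy2, hyn⟩ := hhom hx hn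
        have hmem : h' x ∈ P := ⟨h' x, by
          change h' (s (h' x)) = h' x
          have := hh' _ hy2
          rw [map_sub, sub_eq_zero] at this
          exact this.symm⟩
        have h1 : s (h' x) ∈ φ.range := ⟨_, hφι ⟨h' x, hmem⟩⟩
        have key : ∀ y ∈ I ^ 2, (decompose 𝒜 y n : A) ∈ φ.range := by
          intro y hy
          rw [pow_two] at hy
          refine Submodule.mul_induction_on hy (fun u hu v hv => ?_) fun u v hu hv => by
            rw [decompose_add, DirectSum.add_apply, Submodule.coe_add]; exact add_mem hu hv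
          change π u = 0 at hu
          change π v = 0 at hv
          change pr n (u * v) ∈ φ.range
          rw [← sum_support_decompose 𝒜 u, ← sum_support_decompose 𝒜 v, Finset.sum_mul, map_sum]
          refine sum_mem fun p _ => ?_
          rw [Finset.mul_sum, map_sum]
          refine sum_mem fun q _ => ?_
          change (decompose 𝒜 ((decompose 𝒜 u p : A) * (decompose 𝒜 v q : A)) n : A) ∈ φ.range
          rcases eq_or_ne p 0 with rfl | hp
          · rw [(hπ0 u).1 hu]; simp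
          rcases eq_or_ne q 0 with rfl | hq
          · rw [(hπ0 v).1 hv]; simp
          have hm : (decompose 𝒜 u p : A) * (decompose 𝒜 v q : A) ∈ 𝒜 (p + q) :=
            SetLike.GradedMul.mul_mem (Submodule.coe_mem _) (Submodule.coe_mem _)
          rcases eq_or_ne (p + q) n with e | e
          · rw [decompose_of_mem_same 𝒜 (e ▸ hm)]
            exact mul_mem (ih p ⟨q, hq, e.symm⟩ _ (Submodule.coe_mem _))
              (ih q ⟨p, hp, by rw [add_comm, e]⟩ _ (Submodule.coe_mem _))
          · rw [decompose_of_mem_ne 𝒜 hm e]; exact zero_mem _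
        have h2 := key _ hy2
        rw [decompose_of_mem_same 𝒜 hyn] at h2
        simpa using add_mem h2 h1
    intro x
    have : x ∈ φ.range := by
      rw [← sum_support_decompose 𝒜 x]
      exact sum_mem fun j _ => hB j _ (Submodule.coe_mem _)
    exact this
  have hπφ : ∀ p, π (φ (SymmetricAlgebra.ι (𝒜 0) P p)) = 0 := fun p => by rw [hφι]; exact hπs _
  have hcot : ∀ p, φ (SymmetricAlgebra.ι (𝒜 0) P p) ∈ I ^ 2 → p = 0 := fun p hp => by
    rw [hφι] at hp
    refine Subtype.ext ?_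
    obtain ⟨v, hv⟩ := p.2
    have : e (p : κ → 𝒜 0) = 0 := hh' _ hp
    rw [← hv, he, hv] at this
    exact this
  have hinj : Function.Injective φ := @injective_of_tangent R _ (𝒜 0) _ _ A _ _ _ _ _ _ P _ _ κ _ i r hri π φ hsurj hπφ hcot
  refine ⟨P, inferInstance, inferInstance, Module.Finite.range e,
    Module.Projective.of_split i r hri, ⟨(AlgEquiv.ofBijective φ ⟨hinj, hsurj⟩).symm⟩⟩

end Groth.Agent.GradedSmooth
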